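import Mathlib

/-!
Generated: six symmetric matrices giving outer involutions of `L3(7)`, and words for transvections.
-/

set_option autoImplicit false

namespace Cfsg.Agent.ONSevenIso

/-- The matrices of the six automorphisms. -/
def outerMat : Fin 6 → Matrix (Fin 3) (Fin 3) (ZMod 7) :=
  ![!![1, 1, 3; 1, 3, 1; 3, 1, 1],
    !![1, 1, 3; 1, 2, 2; 3, 2, 4],
    !![1, 0, 0; 0, 1, 0; 0, 0, 1],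
    !![0, 0, 1; 0, 6, 2; 1, 2, 5],
    !![0, 3, 4; 3, 6, 6; 4, 6, 6],
    !![0, 0, 5; 0, 5, 0; 5, 0, 0]]

/-- Their images under transpose-inverse. -/
def dualMat : Fin 6 → Matrix (Fin 3) (Fin 3) (ZMod 7) :=
  ![!![2, 2, 6; 2, 6, 2; 6, 2, 2],
    !![4, 2, 3; 2, 2, 1; 3, 1, 1],
    !![1, 0, 0; 0, 1, 0; 0, 0, 1],
    !![5, 2, 1; 2, 6, 0; 1, 0, 0],
    !![0, 6, 1; 6, 5, 5; 1, 5, 5],
    !![0, 0, 3; 0, 3, 0; 3, 0, 0]]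

/-- A word of even length for each elementary transvection. -/
def transWord : Fin 3 → Fin 3 → List (Fin 6)
  | 0, 1 => [1, 2, 4, 3, 2, 1, 3, 2, 4, 3, 2, 1, 0, 3, 2, 3, 4, 3, 2, 1, 3, 2, 1, 0, 3, 4]
  | 0, 2 => [0, 4, 3, 2, 1, 3, 5, 4, 3, 2, 1, 3, 2, 1, 4, 3, 2, 1, 3, 2, 4, 3, 5, 4]
  | 1, 0 => [1, 0, 3, 2, 1, 3, 2, 3, 2, 4, 3, 2, 1, 3, 2, 3, 2, 4, 3, 2, 1, 0, 3, 2, 4, 3]
  | 1, 2 => [1, 3, 2, 1, 0, 3, 2, 1, 4, 3, 2, 3, 5, 4, 3, 2, 1, 3, 2, 3, 2, 1, 4, 3, 2, 3]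
  | 2, 0 => [2, 4, 3, 2, 1, 5, 4, 3, 2, 1, 3, 2, 1, 4, 3, 2, 1, 3, 2, 4, 3, 2, 3, 4]
  | 2, 1 => [0, 1, 3, 2, 1, 3, 4, 3, 2, 1, 0, 3, 2, 5, 4, 3, 2, 1, 0, 3, 2, 3, 4, 3, 2, 1, 0, 3]
  | _, _ => []

end Cfsg.Agent.ONSevenIso
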