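import Cfsg.Agent.ONSevenIso.Data
import Cfsg.Agent.CosetCert.ONOrder.Main
import Cfsg.Agent.Classical.LinearBasic

/-!
# `⟨a, …, f⟩` in the presented O'Nan group has `L3(7)` as a subgroup of index two

The six generators act on `SL(3, 7)` by `X ↦ A (X⁻¹)ᵀ A⁻¹` for symmetric matrices `A`; words of
even length act by inner automorphisms, and all elementary transvections occur.
-/

set_option autoImplicit false
set_option maxRecDepth 100000
set_option maxHeartbeats 2000000

namespace Cfsg.Agent.ONSevenIso

open Cfsg.Agent.CosetCert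
open scoped MatrixGroups

instance : Fact (Nat.Prime 7) := ⟨by norm_num⟩

/-- `SL(3, 7)`. -/
abbrev S : Type := Matrix.SpecialLinearGroup (Fin 3) (ZMod 7)

/-- The transpose of the inverse. -/
def dualFun (A : S) : S :=
  ⟨(A⁻¹).1.transpose, by rw [Matrix.det_transpose]; exact (A⁻¹).2⟩

theorem dualFun_inv (A : S) :
    (dualFun A)⁻¹ = ⟨A.1.transpose, by rw [Matrix.det_transpose]; exact A.2⟩ :=
  inv_eq_of_mul_eq_one_right (Subtype.ext (by
    show (A⁻¹).1.transpose * A.1.transpose = 1
    rw [← Matrix.transpose_mul, ← Matrix.SpecialLinearGroup.coe_mul, mul_inv_cancel]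
    simp))

theorem dualFun_dualFun (A : S) : dualFun (dualFun A) = A := by
  apply Subtype.ext
  show ((dualFun A)⁻¹).1.transpose = A.1
  rw [dualFun_inv]
  simp

/-- Transpose-inverse. -/
def dual : MulAut S where
  toFun := dualFun
  invFun := dualFun
  left_inv := dualFun_dualFun
  right_inv := dualFun_dualFun
  map_mul' A B := by
    apply Subtype.ext
    show ((A * B)⁻¹).1.transpose = _
    rw [mul_inv_rev, Matrix.SpecialLinearGroup.coe_mul, Matrix.transpose_mul]
    rfl

theorem outer_det : ∀ i : Fin 6, (outerMat i).det = 1 ∧ (dualMat i).det = 1 := by decide +kernel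

theorem outer_dual : ∀ i : Fin 6, outerMat i * (dualMat i).transpose = 1 := by decide +kernel

/-- A symmetric matrix. -/
def oEl (i : Fin 6) : S := ⟨outerMat i, (outer_det i).1⟩

/-- Its dual. -/
def dEl (i : Fin 6) : S := ⟨dualMat i, (outer_det i).2⟩

theorem dual_oEl (i : Fin 6) : dual (oEl i) = dEl i := by
  have h : (oEl i)⁻¹ = ⟨(dualMat i).transpose, by rw [Matrix.det_transpose]; exact (outer_det i).2⟩ :=
    inv_eq_of_mul_eq_one_right (Subtype.ext (outer_dual i))
  apply Subtype.ext
  show ((oEl i)⁻¹).1.transpose = dualMat i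
  rw [h]
  simp

theorem dual_dual (A : S) : dual (dual A) = A := by
  show dual.symm (dual A) = A
  exact dual.symm_apply_apply A

/-- The automorphism of a generator. -/
def gAut (i : Fin 6) : MulAut S := MulAut.conj (oEl i) * dual

theorem gAut_mul (i j : Fin 6) : gAut i * gAut j = MulAut.conj (oEl i * dEl j) := by
  refine MulEquiv.ext fun X => ?_
  simp [gAut, MulAut.mul_apply, MulAut.conj_apply, dual_dual, dual_oEl, mul_assoc]

/-- The matrix of a word of even length. -/
def evenEl : List (Fin 6) → S
  | x :: y :: t => oEl x * dEl y * evenEl t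
  | _ => 1

theorem prod_gAut : ∀ l : List (Fin 6), Even l.length →
    (l.map gAut).prod = MulAut.conj (evenEl l)
  | [], _ => by simp [evenEl]
  | [_], h => by simp at h
  | x :: y :: t, h => by
    have ht : Even t.length := by simpa [Nat.even_add_one] using h
    rw [List.map_cons, List.map_cons, List.prod_cons, List.prod_cons, prod_gAut t ht, ← mul_assoc,
      gAut_mul, ← map_mul, evenEl]

/-- The matrix of a word of even length, computed in matrices. -/
def evenMat : List (Fin 6) → Matrix (Fin 3) (Fin 3) (ZMod 7)
  | x :: y :: t => outerMat x * dualMat y * evenMat t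
  | _ => 1

theorem evenEl_coe : ∀ l : List (Fin 6), (evenEl l).1 = evenMat l
  | [] => rfl
  | [_] => rfl
  | x :: y :: t => by
    rw [evenEl, evenMat, Matrix.SpecialLinearGroup.coe_mul, Matrix.SpecialLinearGroup.coe_mul,
      evenEl_coe t]
    rfl

theorem rels_even : ∀ l ∈ ONChain1.relWords, (∀ a ∈ l, a.2 = true) ∧ l.length % 2 = 0 := by
  decide +kernel

theorem rels_scalar : ∀ l ∈ ONChain1.relWords, ∃ k : ZMod 7,
    evenMat (l.map Prod.fst) = Matrix.scalar (Fin 3) k := by decide +kernel

theorem conj_eq_one_of_scalar {A : S} {k : ZMod 7} (h : A.1 = Matrix.scalar (Fin 3) k) :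
    MulAut.conj A = 1 := by
  refine MulEquiv.ext fun X => ?_
  rw [MulAut.conj_apply, MulAut.one_apply, mul_inv_eq_iff_eq_mul]
  apply Subtype.ext
  rw [Matrix.SpecialLinearGroup.coe_mul, Matrix.SpecialLinearGroup.coe_mul, h]
  exact (Matrix.scalar_commute k (fun _ => Commute.all _ _) X.1).eq

/-- The group presented by the relators not involving `g`. -/
abbrev Six : Type := PresentedGroup (wordRels ONChain1.relWords)

/-- The product of the generators of a list. -/
def sixProd (l : List (Fin 6)) : Six := (l.map fun i => PresentedGroup.of i).prod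

theorem mk_true : ∀ l : List (Fin 6),
    PresentedGroup.mk (wordRels ONChain1.relWords) (FreeGroup.mk (l.map fun x => (x, true))) = sixProd l
  | [] => map_one _
  | x :: t => by
    have h : sixProd (x :: t) = PresentedGroup.of x * sixProd t := by
      rw [sixProd, List.map_cons, List.prod_cons]; rfl
    rw [h, ← mk_true t, PresentedGroup.of, ← map_mul, FreeGroup.of, FreeGroup.mul_mk]
    rfl

theorem sixProd_rel (l : List (Fin 6)) (hl : (l.map fun x => (x, true)) ∈ ONChain1.relWords) :
    sixProd l = 1 := by
  rw [← mk_true]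
  exact PresentedGroup.one_of_mem (List.mem_map_of_mem hl)

theorem six_sq (i : Fin 6) : (PresentedGroup.of i : Six) * PresentedGroup.of i = 1 := by
  have h := sixProd_rel [i, i] (by revert i; decide +kernel)
  simpa [sixProd] using h

theorem six_inv (i : Fin 6) : (PresentedGroup.of i : Six)⁻¹ = PresentedGroup.of i :=
  inv_eq_of_mul_eq_one_right (six_sq i)

theorem six_f : (PresentedGroup.of 5 : Six) =
    PresentedGroup.of 0 * (PresentedGroup.of 2 * PresentedGroup.of 3) ^ 4 := by
  have h := sixProd_rel [0, 5, 3, 2, 3, 2, 3, 2, 3, 2] (by decide +kernel)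
  simp only [sixProd, List.map_cons, List.map_nil, List.prod_cons, List.prod_nil, mul_one] at h
  have h1 : (PresentedGroup.of 0 * PresentedGroup.of 5 : Six) *
      ((PresentedGroup.of 2 * PresentedGroup.of 3) ^ 4)⁻¹ = 1 := by
    simp only [pow_succ, pow_zero, one_mul, mul_inv_rev, six_inv]
    simpa only [mul_assoc] using h
  rw [← mul_inv_eq_one.1 h1, ← mul_assoc, six_sq, one_mul]

theorem six_card : Finite Six ∧ Nat.card Six ≤ 3753792 := by
  have h3 := letterSub_nil_card (wordRels ONChain1.relWords)
  have h2 := letterSub_card_le (rels := wordRels ONChain1.relWords)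
    (fun b : Fin 4 => (b.castSucc.castSucc : Fin 6)) (List.finRange 4)
    ONChain2.subLetters [] rfl List.mem_finRange
    (fun l hl => by
      have h : (ONChain2.relWords.all fun l => decide
          (l.map (fun a => ((a.1.castSucc.castSucc : Fin 6), a.2)) ∈ ONChain1.relWords ++
            [((List.replicate 2 ([1, 0, 2, 3, 2, 3, 2, 3, 2, 3] : List (Fin 6))).flatten).map fun x => (x, true),
             ((List.replicate 2 ([0, 2, 3, 2, 3, 2, 3, 2, 3] : List (Fin 6))).flatten).map fun x => (x, true)])) = true := by
        decide +kernel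
      rcases List.mem_append.1 (of_decide_eq_true (List.all_eq_true.1 h l hl)) with h | h
      · exact PresentedGroup.one_of_mem (List.mem_map_of_mem h)
      · simp only [List.mem_cons, List.not_mem_nil, or_false] at h
        rcases h with h | h
        · rw [h, mk_true]
          have e := sixProd_rel [1, 5, 1, 5] (by decide +kernel)
          simp only [sixProd, List.map_cons, List.map_nil, List.prod_cons, List.prod_nil, mul_one] at e
          rw [six_f] at e
          simpa [sixProd, pow_succ, mul_assoc] using e
        · rw [h, mk_true]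
          have e := six_sq 5
          rw [six_f] at e
          simpa [sixProd, pow_succ, mul_assoc] using e)
    ONChain2.index_bound h3
  have hS : ONChain1.subLetters = (List.finRange 4).map fun b => (b.castSucc.castSucc : Fin 6) := by
    decide +kernel
  obtain ⟨hf, hc⟩ := card_le_top (rels := wordRels ONChain1.relWords) ONChain1.subLetters rfl
    ONChain1.index_bound (hS ▸ h2)
  exact ⟨hf, hc.trans (by norm_num)⟩

theorem lift_gAut_one : ∀ r ∈ wordRels ONChain1.relWords, FreeGroup.lift gAut r = 1 := by
  intro r hr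
  obtain ⟨l, hl, rfl⟩ := List.mem_map.1 hr
  obtain ⟨h1, h2⟩ := rels_even l hl
  obtain ⟨k, hk⟩ := rels_scalar l hl
  have h3 : FreeGroup.lift gAut (FreeGroup.mk l) = ((l.map Prod.fst).map gAut).prod := by
    rw [FreeGroup.lift_mk, List.map_map]
    refine congrArg List.prod (List.map_congr_left fun a ha => ?_)
    rw [h1 a ha]
    rfl
  rw [h3, prod_gAut _ (by rw [List.length_map]; exact Nat.even_iff.2 h2)]
  exact conj_eq_one_of_scalar ((evenEl_coe _).trans hk)

/-- The action on `SL(3, 7)`. -/
def toAut : Six →* MulAut S := PresentedGroup.toGroup lift_gAut_one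

theorem toAut_sixProd (l : List (Fin 6)) : toAut (sixProd l) = (l.map gAut).prod := by
  rw [sixProd, map_list_prod, List.map_map]
  exact congrArg List.prod (List.map_congr_left fun i _ => PresentedGroup.toGroup.of lift_gAut_one)

theorem parity_one : ∀ r ∈ wordRels ONChain1.relWords,
    FreeGroup.lift (fun _ => (Multiplicative.ofAdd (1 : ZMod 2))) r = 1 := by
  intro r hr
  obtain ⟨l, hl, rfl⟩ := List.mem_map.1 hr
  have key : ∀ l ∈ ONChain1.relWords, FreeGroup.lift
      (fun _ => (Multiplicative.ofAdd (1 : ZMod 2))) (FreeGroup.mk l) = 1 := by decide +kernel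
  exact key l hl

/-- The parity of the word length. -/
def parity : Six →* Multiplicative (ZMod 2) := PresentedGroup.toGroup parity_one

theorem parity_sixProd : ∀ l : List (Fin 6), parity (sixProd l) = 1 ↔ Even l.length
  | [] => by simp [sixProd]
  | x :: t => by
    have h : sixProd (x :: t) = PresentedGroup.of x * sixProd t := by
      rw [sixProd, List.map_cons, List.prod_cons]; rfl
    rw [h, map_mul, show parity (PresentedGroup.of x) = Multiplicative.ofAdd (1 : ZMod 2) from
      PresentedGroup.toGroup.of parity_one, List.length_cons, Nat.even_add_one, ← parity_sixProd t]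
    generalize parity (sixProd t) = v
    revert v
    decide

theorem exists_list (x : Six) : ∃ l, sixProd l = x := by
  have hx : x ∈ Subgroup.closure (Set.range (PresentedGroup.of : Fin 6 → Six)) := by
    rw [PresentedGroup.closure_range_of]; exact Subgroup.mem_top x
  induction hx using Subgroup.closure_induction with
  | mem y hy => obtain ⟨i, rfl⟩ := hy; exact ⟨[i], by simp [sixProd]⟩
  | one => exact ⟨[], rfl⟩
  | mul y z _ _ hy hz =>
    obtain ⟨l, rfl⟩ := hy; obtain ⟨m, rfl⟩ := hz
    exact ⟨l ++ m, by simp [sixProd]⟩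
  | inv y _ hy =>
    obtain ⟨l, rfl⟩ := hy
    refine ⟨l.reverse, ?_⟩
    simp [sixProd, List.prod_inv_reverse, ← List.map_reverse, Function.comp_def, six_inv]

theorem parity_surjective : Function.Surjective parity := by
  intro v
  obtain rfl | rfl : v = 1 ∨ v = Multiplicative.ofAdd 1 := by revert v; decide
  · exact ⟨1, map_one _⟩
  · exact ⟨PresentedGroup.of 0, PresentedGroup.toGroup.of parity_one⟩

theorem parity_index : parity.ker.index = 2 := by
  rw [Subgroup.index_ker, MonoidHom.range_eq_top.2 parity_surjective, Subgroup.card_top]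
  rw [Nat.card_eq_fintype_card]
  rfl

theorem conj_ker : (MulAut.conj : S →* MulAut S).ker = Subgroup.center S := by
  ext A
  rw [MonoidHom.mem_ker, Subgroup.mem_center_iff]
  constructor
  · intro h X
    have h' := DFunLike.congr_fun h X
    rw [MulAut.conj_apply, MulAut.one_apply, mul_inv_eq_iff_eq_mul] at h'
    exact h'.symm
  · intro h
    refine MulEquiv.ext fun X => ?_
    rw [MulAut.conj_apply, MulAut.one_apply, mul_inv_eq_iff_eq_mul, h]

theorem trans_word : ∀ i j : Fin 3, i ≠ j → (transWord i j).length % 2 = 0 ∧ ∃ k : ZMod 7,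
    k ≠ 0 ∧ evenMat (transWord i j) = k • (1 + Matrix.single i j (1 : ZMod 7)) := by decide +kernel

theorem conj_mem_range (x : parity.ker) : toAut x ∈ (MulAut.conj : S →* MulAut S).range := by
  obtain ⟨l, hl⟩ := exists_list x
  refine ⟨evenEl l, ?_⟩
  rw [← hl, toAut_sixProd, prod_gAut l ((parity_sixProd l).1 (by rw [hl]; exact x.2))]

theorem conj_le_image :
    (MulAut.conj : S →* MulAut S).range ≤ parity.ker.map toAut := by
  rw [MonoidHom.range_eq_map]
  rintro _ ⟨A, -, rfl⟩
  suffices h : (⊤ : Subgroup S) ≤ (parity.ker.map toAut).comap MulAut.conj from h (Subgroup.mem_top A)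
  refine ge_of_eq (Cfsg.Agent.Classical.sl_eq_top_of_transvection _ ?_)
  intro i j hij c
  obtain ⟨hlen, k, hk, hmat⟩ := trans_word i j hij
  have h1 : Matrix.SpecialLinearGroup.transvection hij (1 : ZMod 7) ∈
      (parity.ker.map toAut).comap MulAut.conj := by
    refine ⟨sixProd (transWord i j), (parity_sixProd _).2 (Nat.even_iff.2 hlen), ?_⟩
    rw [toAut_sixProd, prod_gAut _ (Nat.even_iff.2 hlen)]
    have hs : ((evenEl (transWord i j)) * (Matrix.SpecialLinearGroup.transvection hij (1 : ZMod 7))⁻¹).1 =
        Matrix.scalar (Fin 3) k := by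
      rw [Matrix.SpecialLinearGroup.coe_mul, evenEl_coe, hmat,
        Matrix.SpecialLinearGroup.transvection_inv, Matrix.SpecialLinearGroup.transvection_coe,
        Matrix.smul_mul, ← Matrix.transvection, ← Matrix.transvection,
        Matrix.transvection_mul_transvection_same _ _ hij, add_neg_cancel, Matrix.transvection_zero,
        Matrix.smul_one_eq_diagonal]
      rfl
    have h2 := conj_eq_one_of_scalar hs
    rw [map_mul, map_inv, mul_inv_eq_one] at h2
    exact h2
  have hpow : ∀ m : ℕ, Matrix.SpecialLinearGroup.transvection hij (m : ZMod 7) ∈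
      (parity.ker.map toAut).comap MulAut.conj := by
    intro m
    induction m with
    | zero => simp
    | succ m ih =>
      rw [Nat.cast_succ, Matrix.SpecialLinearGroup.transvection_add]
      exact Subgroup.mul_mem _ ih h1
  have := hpow c.val
  rwa [ZMod.natCast_zmod_val] at this

theorem card_psl : Nat.card (Matrix.ProjectiveSpecialLinearGroup (Fin 3) (ZMod 7)) = 1876896 := by
  have h := Cfsg.Agent.Classical.card_sl_mul (F := ZMod 7) (q := 7) (ZMod.card 7) 3 (by norm_num)
  rw [Fin.prod_univ_three] at h
  have h2 := Cfsg.Agent.Classical.card_psl_mul (ι := Fin 3) (F := ZMod 7)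
  rw [Fintype.card_fin, ZMod.card] at h2
  rw [← h2] at h
  generalize Nat.card (Matrix.ProjectiveSpecialLinearGroup (Fin 3) (ZMod 7)) = N at h ⊢
  simp only [Fin.val_zero, Fin.val_one, Fin.val_two] at h
  norm_num at h
  omega

/-- The relators of the O'Nan group. -/
abbrev rels : Set (FreeGroup Cfsg.Spor.ON.Gen) :=
  Cfsg.Spor.coxRelators Cfsg.Spor.ON.edges ∪ {r | r ∈ Cfsg.Spor.ON.extra}

/-- The subgroup in question. -/
abbrev H : Subgroup (PresentedGroup rels) := Data.sub rels ONIndex122760.subGens

theorem card_H : Nat.card H = 3753792 := by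
  have h := H.card_mul_index
  have hi : H.index = 122760 := ONIndex122760.index_val
  have hG : Nat.card (PresentedGroup rels) = 460815505920 := ONOrder.order_and_simple.2
  rw [hi, hG] at h
  exact Nat.eq_of_mul_eq_mul_right (by norm_num : 0 < 122760) (h.trans (by norm_num))

theorem six_equiv_H : Nonempty (Six ≃* H) ∧ Nat.card Six = 3753792 := by
  obtain ⟨ψ, hψ⟩ := exists_rename (rels := rels) ONChain1.relWords ONChain1.ren
    (fun l hl => by
      have h : (ONChain1.relWords.all fun l => decide (l.map (fun a => (ONChain1.ren a.1, a.2)) ∈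
          coxWords ONIndex122760.genList Cfsg.Spor.ON.edges Cfsg.Spor.ON.extra ++
            ONOrder.derivedWords)) = true := by
        decide +kernel
      rcases List.mem_append.1 (of_decide_eq_true (List.all_eq_true.1 h l hl)) with h | h
      · exact ONOrder.rels_ok _ h
      · exact ONOrder.derived_ok _ h)
  have hgen : ONIndex122760.subGens =
      (List.finRange 6).map fun i => FreeGroup.of (ONChain1.ren i) := rfl
  have hr : ψ.range = H := by
    rw [MonoidHom.range_eq_map, ← PresentedGroup.closure_range_of, MonoidHom.map_closure]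
    refine Eq.trans ?_ (MonoidHom.map_closure (PresentedGroup.mk rels)
      {s | s ∈ ONIndex122760.subGens}).symm
    apply congrArg Subgroup.closure
    ext g
    constructor
    · rintro ⟨_, ⟨i, rfl⟩, rfl⟩
      exact ⟨FreeGroup.of (ONChain1.ren i),
        hgen ▸ List.mem_map.2 ⟨i, List.mem_finRange i, rfl⟩,
        ((hψ (FreeGroup.of i)).trans (by rw [FreeGroup.map.of])).symm⟩
    · rintro ⟨w, hw, rfl⟩
      rw [hgen] at hw
      obtain ⟨i, -, rfl⟩ := List.mem_map.1 hw
      exact ⟨_, ⟨i, rfl⟩, (hψ (FreeGroup.of i)).trans (by rw [FreeGroup.map.of])⟩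
  have : Finite Six := six_card.1
  have hb : Function.Bijective ψ.rangeRestrict :=
    ψ.rangeRestrict_surjective.bijective_of_nat_card_le (by rw [hr, card_H]; exact six_card.2)
  exact ⟨⟨(MulEquiv.ofBijective _ hb).trans (MulEquiv.subgroupCongr hr)⟩,
    by rw [Nat.card_eq_of_bijective _ hb, hr, card_H]⟩

theorem ker_equiv :
    Nonempty (parity.ker ≃* Matrix.ProjectiveSpecialLinearGroup (Fin 3) (ZMod 7)) := by
  have : Finite Six := six_card.1
  let R := (MulAut.conj : S →* MulAut S).range
  let α : parity.ker →* R := (toAut.comp parity.ker.subtype).codRestrict R conj_mem_range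
  have hs : Function.Surjective α := by
    rintro ⟨σ, hσ⟩
    obtain ⟨x, hx, rfl⟩ := conj_le_image hσ
    exact ⟨⟨x, hx⟩, rfl⟩
  let e : Matrix.ProjectiveSpecialLinearGroup (Fin 3) (ZMod 7) ≃* R :=
    (QuotientGroup.quotientMulEquivOfEq conj_ker.symm).trans
      (QuotientGroup.quotientKerEquivRange MulAut.conj)
  have hk : Nat.card parity.ker = 1876896 := by
    have h := parity.ker.card_mul_index
    rw [parity_index, six_equiv_H.2] at h
    omega
  have hb : Function.Bijective α := hs.bijective_of_nat_card_le (by
    rw [← Nat.card_congr e.toEquiv, card_psl, hk])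
  exact ⟨(MulEquiv.ofBijective α hb).trans e.symm⟩

theorem exists_normal : ∃ N : Subgroup H, N.Normal ∧ N.index = 2 ∧
    Nonempty (N ≃* Matrix.ProjectiveSpecialLinearGroup (Fin 3) (ZMod 7)) := by
  obtain ⟨⟨e⟩, -⟩ := six_equiv_H
  obtain ⟨k⟩ := ker_equiv
  refine ⟨parity.ker.map e.toMonoidHom, Subgroup.Normal.map inferInstance _ e.surjective, ?_,
    ⟨(parity.ker.equivMapOfInjective e.toMonoidHom e.injective).symm.trans k⟩⟩
  exact (Subgroup.index_map_equiv _ e).trans parity_index

end Cfsg.Agent.ONSevenIso
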